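import Groth.Agent.JacFSLib.Criterion
import Mathlib.RingTheory.Smooth.Locus
import Mathlib.RingTheory.Kaehler.JacobiZariski
import Mathlib.RingTheory.Kaehler.Polynomial
import Mathlib.RingTheory.Etale.Basic
import Mathlib.RingTheory.RingHom.Etale
import Mathlib.RingTheory.Jacobson.Ring
import Mathlib.FieldTheory.Finite.Basic

/-! Étale charts of smooth algebras at points with finite residue field. -/

set_option autoImplicit false
universe u

open TensorProduct KaehlerDifferential

namespace EtaleChartLib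

variable {k R : Type u} [CommRing k] [CommRing R] [Algebra k R]

/-- Differentials at a point with finite residue field come from the maximal ideal. -/
theorem exists_mem_tmul_eq (m : Ideal R) [m.IsMaximal] [Finite (R ⧸ m)] (z : (R ⧸ m) ⊗[R] Ω[R⁄k]) :
    ∃ c ∈ m, (1 : R ⧸ m) ⊗ₜ[R] D k R c = z := by
  classical
  let _ := Ideal.Quotient.field m
  let _ : Fintype (R ⧸ m) := Fintype.ofFinite _
  have hmem : ∀ r : R, ∃ c ∈ m, (1 : R ⧸ m) ⊗ₜ[R] D k R c = (1 : R ⧸ m) ⊗ₜ[R] D k R r := fun r => by
    refine ⟨r - r ^ Fintype.card (R ⧸ m), ?_, ?_⟩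
    · rw [← Ideal.Quotient.eq_zero_iff_mem, map_sub, map_pow, FiniteField.pow_card, sub_self]
    · rw [map_sub, Derivation.leibniz_pow, tmul_sub, ← Nat.cast_smul_eq_nsmul R, ← smul_tmul]
      rw [show (Fintype.card (R ⧸ m) : R) • (1 : R ⧸ m) = (Fintype.card (R ⧸ m) : R ⧸ m) by
        rw [Algebra.smul_def, mul_one, map_natCast], FiniteField.cast_card_eq_zero, zero_tmul, sub_zero]
  have hsmul : ∀ (s : R), ∀ c ∈ m, (1 : R ⧸ m) ⊗ₜ[R] D k R (s * c) = s • ((1 : R ⧸ m) ⊗ₜ[R] D k R c) := by
    intro s c hc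
    rw [Derivation.leibniz, tmul_add, tmul_smul, ← smul_tmul (R := R) c,
      show c • (1 : R ⧸ m) = Ideal.Quotient.mk m c by rw [Algebra.smul_def, mul_one]; rfl,
      Ideal.Quotient.eq_zero_iff_mem.2 hc, zero_tmul, add_zero]
  induction z using TensorProduct.induction_on with
  | zero => exact ⟨0, zero_mem _, by rw [map_zero, tmul_zero]⟩
  | add x y hx hy =>
    obtain ⟨a, ha, rfl⟩ := hx
    obtain ⟨b, hb, rfl⟩ := hy
    exact ⟨a + b, add_mem ha hb, by rw [map_add, tmul_add]⟩
  | tmul t ω =>
    obtain ⟨s, rfl⟩ := Ideal.Quotient.mk_surjective t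
    have hω : ω ∈ Submodule.span R (Set.range (D k R)) := span_range_derivation k R ▸ Submodule.mem_top
    have key : ∃ c ∈ m, (1 : R ⧸ m) ⊗ₜ[R] D k R c = (1 : R ⧸ m) ⊗ₜ[R] ω := by
      induction hω using Submodule.span_induction with
      | mem x hx => obtain ⟨r, rfl⟩ := hx; exact hmem r
      | zero => exact ⟨0, zero_mem _, by rw [map_zero]⟩
      | add x y _ _ hx hy =>
        obtain ⟨a, ha, hax⟩ := hx
        obtain ⟨b, hb, hby⟩ := hy
        exact ⟨a + b, add_mem ha hb, by rw [map_add, tmul_add, tmul_add, hax, hby]⟩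
      | smul r x _ hx =>
        obtain ⟨a, ha, hax⟩ := hx
        exact ⟨r * a, Ideal.mul_mem_left _ _ ha, by rw [hsmul r a ha, hax, tmul_smul]⟩
    obtain ⟨c, hc, hcω⟩ := key
    refine ⟨s * c, Ideal.mul_mem_left _ _ hc, ?_⟩
    rw [hsmul s c hc, hcω, smul_tmul', Algebra.smul_def, mul_one]
    rfl

/-- The smooth case of the chart theorem. -/
theorem exists_chart_of_smooth [Algebra.Smooth k R] (m : Ideal R) [m.IsMaximal] [Finite (R ⧸ m)] (d : ℕ) (hd : 0 < d)
    (hdim : Module.finrank (R ⧸ m) ((R ⧸ m) ⊗[R] Ω[R⁄k]) = d) :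
    ∃ g : R, g ∉ m ∧ ∃ φ : MvPolynomial (Fin d) k →ₐ[k] Localization.Away g,
      φ.toRingHom.Etale ∧
      Function.Surjective
        ((Ideal.Quotient.mk (m.map (algebraMap R (Localization.Away g)))).comp φ.toRingHom) := by
  classical
  let _ := Ideal.Quotient.field m
  -- choice of the functions
  obtain ⟨ā, hā⟩ := IsCyclic.exists_generator (α := (R ⧸ m)ˣ)
  obtain ⟨a, ha⟩ := Ideal.Quotient.mk_surjective (ā : R ⧸ m)
  let e : Module.Basis (Fin d) (R ⧸ m) ((R ⧸ m) ⊗[R] Ω[R⁄k]) := Module.finBasisOfFinrankEq _ _ hdim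
  let i₀ : Fin d := ⟨0, hd⟩
  let a' : Fin d → R := fun i => if i = i₀ then a else 0
  choose c hcm hc using fun i => exists_mem_tmul_eq (k := k) m (e i - (1 : R ⧸ m) ⊗ₜ[R] D k R (a' i))
  let f : Fin d → R := fun i => a' i + c i
  have hf : ∀ i, (1 : R ⧸ m) ⊗ₜ[R] D k R (f i) = e i := fun i => by
    rw [map_add, tmul_add, hc, add_sub_cancel]
  let l : (Fin d → R) →ₗ[R] Ω[R⁄k] := Fintype.linearCombination R fun i => D k R (f i)
  have hl : ∀ i, l (Pi.single i 1) = D k R (f i) := fun i => by
    rw [Fintype.linearCombination_apply_single, one_smul]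
  -- the residue map is bijective
  have hsurj₀ : Function.Surjective (l.lTensor (R ⧸ m)) := fun z => by
    refine Submodule.eq_top_iff'.1 (?_ : LinearMap.range (l.baseChange (R ⧸ m)) = ⊤) z
    rw [eq_top_iff, ← e.span_eq, Submodule.span_le]
    rintro _ ⟨i, rfl⟩
    exact ⟨1 ⊗ₜ Pi.single i 1, by rw [LinearMap.baseChange_tmul, hl, hf]⟩
  have hinj₀ : Function.Injective (l.lTensor (R ⧸ m)) := by
    have hs : Function.Surjective (l.baseChange (R ⧸ m)) := hsurj₀
    have hdim' : Module.finrank (R ⧸ m) ((R ⧸ m) ⊗[R] (Fin d → R)) = d := by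
      rw [(TensorProduct.piScalarRight R (R ⧸ m) (R ⧸ m) (Fin d)).finrank_eq]
      simp
    exact (LinearMap.injective_iff_surjective_of_finrank_eq_finrank (hdim'.trans hdim.symm)).2 hs
  let K := m.ResidueField
  have hK : Function.Bijective (algebraMap (R ⧸ m) K) := m.bijective_algebraMap_quotient_residueField
  let eK : (R ⧸ m) ≃ₗ[R] K := LinearEquiv.ofBijective (IsScalarTower.toAlgHom R (R ⧸ m) K).toLinearMap hK
  have hKl : ∀ z, l.lTensor K (eK.toLinearMap.rTensor (Fin d → R) z) =
      eK.toLinearMap.rTensor Ω[R⁄k] (l.lTensor (R ⧸ m) z) := fun z => by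
    rw [← LinearMap.comp_apply, ← LinearMap.comp_apply, LinearMap.lTensor_comp_rTensor,
      LinearMap.rTensor_comp_lTensor]
  have hKinj : Function.Injective (l.lTensor K) := by
    intro x y hxy
    obtain ⟨x', rfl⟩ := (eK.rTensor (Fin d → R)).surjective x
    obtain ⟨y', rfl⟩ := (eK.rTensor (Fin d → R)).surjective y
    exact congrArg _ (hinj₀ ((eK.rTensor Ω[R⁄k]).injective ((hKl x').symm.trans (hxy.trans (hKl y')))))
  -- spreading out
  obtain ⟨g₁, hg₁, r, hr⟩ := JacFSLib.exists_retraction_smul l m hKinj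
  have hQ : (⟨m, inferInstance⟩ : PrimeSpectrum R) ∉ Module.support R (Ω[R⁄k] ⧸ LinearMap.range l) := by
    rw [Module.mem_support_iff_nontrivial_residueField_tensorProduct, not_nontrivial_iff_subsingleton,
      subsingleton_iff_forall_eq 0]
    intro y
    obtain ⟨x, rfl⟩ := LinearMap.lTensor_surjective K (LinearMap.range l).mkQ_surjective y
    obtain ⟨x', rfl⟩ := (eK.rTensor Ω[R⁄k]).surjective x
    obtain ⟨z, rfl⟩ := hsurj₀ x'
    rw [show (eK.rTensor Ω[R⁄k]) (l.lTensor (R ⧸ m) z) = l.lTensor K (eK.toLinearMap.rTensor _ z) from (hKl z).symm,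
      ← LinearMap.comp_apply, ← LinearMap.lTensor_comp, LinearMap.range_mkQ_comp]
    simp
  rw [Module.notMem_support_iff'] at hQ
  obtain ⟨gens, hgens⟩ := (inferInstance : Module.Finite R Ω[R⁄k]).fg_top
  choose t htm ht using fun x : gens => hQ ((LinearMap.range l).mkQ x)
  let g₂ : R := ∏ x : gens, t x
  have hg₂ : g₂ ∉ m := fun h => ((inferInstance : m.IsPrime).prod_mem_iff.1 h).elim fun x hx => htm x hx.2
  have hg₂' : ∀ x, g₂ • x ∈ LinearMap.range l := fun x => by
    have hx : x ∈ Submodule.span R (gens : Set Ω[R⁄k]) := hgens.symm ▸ Submodule.mem_top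
    induction hx using Submodule.span_induction with
    | mem z hz =>
      rw [show g₂ = (∏ x ∈ Finset.univ.erase (⟨z, hz⟩ : gens), t x) * t ⟨z, hz⟩ from
        (Finset.prod_erase_mul _ _ (Finset.mem_univ _)).symm, mul_smul]
      exact Submodule.smul_mem _ _ ((Submodule.Quotient.mk_eq_zero _).1 (ht ⟨z, hz⟩))
    | zero => rw [smul_zero]; exact zero_mem _
    | add z w _ _ hz hw => rw [smul_add]; exact add_mem hz hw
    | smul s z _ hz => rw [smul_comm]; exact Submodule.smul_mem _ _ hz
  let g := g₁ * g₂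
  have hg : g ∉ m := fun h => ((inferInstance : m.IsPrime).mem_or_mem h).elim hg₁ hg₂
  let T := Localization.Away g
  have hu : ∀ s, s ∣ g → IsUnit (algebraMap R T s) := fun s hs =>
    isUnit_of_dvd_unit (map_dvd (algebraMap R T) hs) (IsLocalization.Away.algebraMap_isUnit g)
  let φ : MvPolynomial (Fin d) k →ₐ[k] T := MvPolynomial.aeval fun i => algebraMap R T (f i)
  refine ⟨g, hg, φ, ?_, ?_⟩
  · let B := MvPolynomial (Fin d) k
    let _ : Algebra B T := φ.toRingHom.toAlgebra
    have : IsScalarTower k B T := IsScalarTower.of_algebraMap_eq fun x => (φ.commutes x).symm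
    let ι : Ω[R⁄k] →ₗ[R] Ω[T⁄k] := KaehlerDifferential.map k k R T
    have : IsLocalizedModule (Submonoid.powers g) ι :=
      KaehlerDifferential.isLocalizedModule_map k R T (Submonoid.powers g)
    let bT : Module.Basis (Fin d) T (T ⊗[B] Ω[B⁄k]) := (KaehlerDifferential.mvPolynomialBasis k (Fin d)).baseChange T
    let Φ := KaehlerDifferential.mapBaseChange k B T
    have hΦ : ∀ i, Φ (bT i) = ι (l (Pi.single i 1)) := fun i => by
      rw [Module.Basis.baseChange_apply, KaehlerDifferential.mvPolynomialBasis_apply,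
        KaehlerDifferential.mapBaseChange_tmul, one_smul, KaehlerDifferential.map_D, hl,
        KaehlerDifferential.map_D]
      show D k T (φ (MvPolynomial.X i)) = _
      rw [MvPolynomial.aeval_X]
    have hsurjΦ : Function.Surjective Φ := by
      intro y
      obtain ⟨⟨x, s⟩, hxs⟩ := IsLocalizedModule.surj (Submonoid.powers g) ι y
      obtain ⟨w, hw⟩ := hg₂' x
      obtain ⟨v, hv⟩ := (IsLocalization.map_units T s).mul (hu g₂ (dvd_mul_left _ _))
      refine ⟨(↑v⁻¹ : T) • ∑ i, algebraMap R T (w i) • bT i, ?_⟩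
      rw [map_smul, map_sum]
      rw [Finset.sum_congr rfl (g := fun i => ι (w i • l (Pi.single i 1))) fun i _ => by
        rw [map_smul, hΦ, algebraMap_smul, map_smul], ← map_sum]
      rw [show ∑ i, w i • l (Pi.single i 1) = l w by
        rw [Fintype.linearCombination_apply]; exact Finset.sum_congr rfl fun i _ => by rw [hl], hw, map_smul]
      rw [show ι x = (s : R) • y from hxs.symm, smul_smul, ← algebraMap_smul T (g₂ * (s : R)) y, smul_smul,
        map_mul, mul_comm (algebraMap R T g₂), ← hv, Units.inv_mul, one_smul]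
    have hinjΦ : Function.Injective Φ := by
      let j : (Fin d → R) →ₗ[R] T ⊗[B] Ω[B⁄k] := Fintype.linearCombination R fun i => bT i
      have hunit : ∀ s : Submonoid.powers g, IsUnit (algebraMap R (Module.End R (T ⊗[B] Ω[B⁄k])) s) := fun s => by
        rw [← (Algebra.lsmul R R (T ⊗[B] Ω[B⁄k]) : T →ₐ[R] Module.End R (T ⊗[B] Ω[B⁄k])).commutes]
        exact (IsLocalization.map_units T s).map _
      let ρ₀ : Ω[T⁄k] →ₗ[R] T ⊗[B] Ω[B⁄k] := IsLocalizedModule.lift (Submonoid.powers g) ι (j ∘ₗ r) hunit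
      let ρ : Ω[T⁄k] →ₗ[T] T ⊗[B] Ω[B⁄k] :=
        LinearMap.extendScalarsOfIsLocalization (Submonoid.powers g) T ρ₀
      have h1 : ρ ∘ₗ Φ = algebraMap R T g₁ • LinearMap.id := bT.ext fun i => by
        rw [LinearMap.comp_apply, hΦ]
        show ρ₀ (ι (l (Pi.single i 1))) = _
        rw [IsLocalizedModule.lift_apply, LinearMap.comp_apply,
          show r (l (Pi.single i 1)) = g₁ • Pi.single i 1 from LinearMap.congr_fun hr _, map_smul,
          Fintype.linearCombination_apply_single, one_smul, LinearMap.smul_apply, LinearMap.id_apply,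
          algebraMap_smul]
      intro x y hxy
      obtain ⟨v, hv⟩ := hu g₁ (dvd_mul_right _ _)
      have h2 := congrArg ρ hxy
      rw [← LinearMap.comp_apply, ← LinearMap.comp_apply, h1, LinearMap.smul_apply, LinearMap.smul_apply,
        ← hv] at h2
      exact (v.isUnit.smul_left_cancel).1 h2
    have : Algebra.FormallySmooth k T := inferInstance
    have hΩ : Subsingleton Ω[T⁄B] := by
      refine subsingleton_of_forall_eq 0 fun y => ?_
      obtain ⟨x, rfl⟩ := KaehlerDifferential.map_surjective k B T y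
      exact (KaehlerDifferential.exact_mapBaseChange_map k B T x).2 (hsurjΦ x)
    have hH : Subsingleton (Algebra.H1Cotangent B T) := by
      refine subsingleton_of_forall_eq 0 fun y => ?_
      have h0 : Algebra.H1Cotangent.δ k B T y = 0 := hinjΦ (by
        rw [map_zero]; exact (Algebra.H1Cotangent.exact_δ_mapBaseChange (R := k) (S := B) (T := T)).apply_apply_eq_zero y)
      obtain ⟨x, rfl⟩ := (Algebra.H1Cotangent.exact_map_δ (R := k) (S := B) (T := T) y).1 h0
      rw [Subsingleton.elim x 0, map_zero]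
    have : Algebra.FormallyEtale B T := ⟨hΩ, hH⟩
    have : Algebra.FinitePresentation R T := IsLocalization.Away.finitePresentation g
    have : Algebra.FinitePresentation k T := .trans k R T
    have : Algebra.FinitePresentation B T := Algebra.FinitePresentation.of_restrict_scalars_finitePresentation k B T
    exact (RingHom.etale_algebraMap (R := B) (S := T)).2 ⟨inferInstance, inferInstance⟩
  · let M := m.map (algebraMap R T)
    have hpoly : ∀ x : R, ∃ p : MvPolynomial (Fin d) k,
        Ideal.Quotient.mk M (φ p) = Ideal.Quotient.mk M (algebraMap R T x) := by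
      intro x
      have hcl : ∀ x y : R, x - y ∈ m → Ideal.Quotient.mk M (algebraMap R T x) = Ideal.Quotient.mk M (algebraMap R T y) :=
        fun x y h => by rw [Ideal.Quotient.eq, ← map_sub]; exact Ideal.mem_map_of_mem _ h
      by_cases hx : Ideal.Quotient.mk m x = 0
      · exact ⟨0, by simpa using (hcl x 0 (by simpa using Ideal.Quotient.eq_zero_iff_mem.1 hx)).symm⟩
      · obtain ⟨N, hN⟩ : ∃ N : ℕ, ā ^ N = Units.mk0 (Ideal.Quotient.mk m x) hx := by
          have h := hā (Units.mk0 _ hx)
          rw [← mem_powers_iff_mem_zpowers] at h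
          exact h
        refine ⟨MvPolynomial.X i₀ ^ N, ?_⟩
        rw [map_pow, MvPolynomial.aeval_X, ← map_pow]
        refine hcl _ _ ?_
        rw [← Ideal.Quotient.eq, map_pow, map_add, Ideal.Quotient.eq_zero_iff_mem.2 (hcm i₀), add_zero]
        simp only [a', if_pos, ha]
        simpa using congrArg Units.val hN
    intro z
    obtain ⟨z, rfl⟩ := Ideal.Quotient.mk_surjective z
    obtain ⟨x, s, rfl⟩ := IsLocalization.exists_mk'_eq (Submonoid.powers g) z
    have hs : (s : R) ∉ m := fun h => by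
      obtain ⟨n, hn⟩ := s.2
      exact hg ((inferInstance : m.IsPrime).mem_of_pow_mem n (by rw [show g ^ n = (s : R) from hn]; exact h))
    obtain ⟨w, hw⟩ := Ideal.Quotient.mk_surjective ((Ideal.Quotient.mk m (s : R))⁻¹)
    have hsw : x - x * w * s ∈ m := by
      rw [← Ideal.Quotient.eq, map_mul, map_mul, hw, mul_assoc,
        inv_mul_cancel₀ (fun h => hs (Ideal.Quotient.eq_zero_iff_mem.1 h)), mul_one]
    obtain ⟨p, hp⟩ := hpoly (x * w)
    refine ⟨p, hp.trans ?_⟩
    refine ((IsLocalization.map_units T s).map (Ideal.Quotient.mk M)).mul_left_injective ?_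
    show Ideal.Quotient.mk M _ * Ideal.Quotient.mk M _ = Ideal.Quotient.mk M _ * Ideal.Quotient.mk M _
    rw [← map_mul (Ideal.Quotient.mk M), ← map_mul (Ideal.Quotient.mk M), IsLocalization.mk'_spec, ← map_mul (algebraMap R T), Ideal.Quotient.eq, ← map_sub, ← neg_sub,
      map_neg, neg_mem_iff]
    exact Ideal.mem_map_of_mem _ hsw

end EtaleChartLib
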